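import Groth.Agent.L22.AffineDim
import Mathlib.RingTheory.Nullstellensatz
import Mathlib.Algebra.MvPolynomial.PDeriv
import Mathlib.Algebra.MvPolynomial.Funext
import Mathlib.RingTheory.Ideal.KrullsHeightTheorem
import Mathlib.RingTheory.AlgebraicIndependent.TranscendenceBasis
import Mathlib.LinearAlgebra.FiniteDimensional.Lemmas

/-!
Bertini for an affine variety: a general affine linear form has no critical zero.
-/

set_option autoImplicit false
universe u

open MvPolynomial

namespace Groth.L14.Bertini

variable {k : Type u} [Field k] {σ : Type} [Fintype σ]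

/-- The gradient at a point. -/
noncomputable def grad (x : σ → k) : MvPolynomial σ k →ₗ[k] (σ → k) :=
  LinearMap.pi fun i => (aeval x : MvPolynomial σ k →ₐ[k] k).toLinearMap.comp (pderiv i).toLinearMap

theorem grad_apply (x : σ → k) (p : MvPolynomial σ k) (i : σ) : grad x p i = eval x (pderiv i p) := rfl

theorem grad_mul (x : σ → k) (p q : MvPolynomial σ k) :
    grad x (p * q) = eval x p • grad x q + eval x q • grad x p := by
  funext i
  simp only [Pi.add_apply, Pi.smul_apply, grad_apply, Derivation.leibniz, smul_eq_mul, map_add, map_mul]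

theorem grad_X [DecidableEq σ] (x : σ → k) (i : σ) : grad x (X i) = Pi.single i 1 := by
  funext j
  rw [grad_apply, pderiv_X]
  rcases eq_or_ne j i with rfl | h
  · simp
  · simp [h, Ne.symm h]

theorem grad_C (x : σ → k) (a : k) : grad x (C a) = 0 := by
  funext j
  simp [grad_apply]

/-- The maximal ideal of a point. -/
noncomputable abbrev ptIdeal (x : σ → k) : Ideal (MvPolynomial σ k) := RingHom.ker (eval x)

theorem X_sub_mem (x : σ → k) (i : σ) : X i - C (x i) ∈ ptIdeal x := by simp [RingHom.mem_ker]

theorem taylor (x : σ → k) (g : MvPolynomial σ k) :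
    g - C (eval x g) - ∑ i, C (grad x g i) * (X i - C (x i)) ∈ ptIdeal x ^ 2 := by
  classical
  induction g using MvPolynomial.induction_on with
  | C a => simp [grad_apply]
  | add p q hp hq =>
    have := (ptIdeal x ^ 2).add_mem hp hq
    convert this using 1
    simp only [map_add, Pi.add_apply, add_mul, Finset.sum_add_distrib]
    ring
  | mul_X p j hp =>
    set M := ptIdeal x
    let S := ∑ i, C (grad x p i) * (X i - C (x i))
    have hS : S ∈ M := Ideal.sum_mem _ fun i _ => M.mul_mem_left _ (X_sub_mem x i)
    have hg : ∑ i, C (grad x (p * X j) i) * (X i - C (x i)) =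
        C (x j) * S + C (eval x p) * (X j - C (x j)) := by
      rw [grad_mul, grad_X, eval_X]
      simp only [Pi.add_apply, Pi.smul_apply, smul_eq_mul, map_add, map_mul, add_mul, Finset.sum_add_distrib,
        S, Finset.mul_sum, mul_assoc]
      simp only [← Finset.mul_sum]
      rw [Finset.sum_eq_single (f := fun i => C ((Pi.single j (1 : k) : σ → k) i) * (X i - C (x i))) j
        (fun b _ hb => by rw [Pi.single_eq_of_ne hb, map_zero, zero_mul])
        (fun h => absurd (Finset.mem_univ j) h), Pi.single_eq_same, map_one, one_mul, add_comm]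
    have h1 : (p - C (eval x p) - S) * X j + S * (X j - C (x j)) ∈ M ^ 2 :=
      (M ^ 2).add_mem ((M ^ 2).mul_mem_right _ hp) (by rw [pow_two]; exact Ideal.mul_mem_mul hS (X_sub_mem x j))
    convert h1 using 1
    rw [hg, map_mul, eval_X, map_mul]
    ring

theorem grad_eq_zero_of_mem_sq (x : σ → k) {u : MvPolynomial σ k} (hu : u ∈ ptIdeal x ^ 2) : grad x u = 0 := by
  rw [pow_two] at hu
  refine Submodule.mul_induction_on hu (fun a ha b hb => ?_) (fun a b ha hb => by rw [map_add, ha, hb, add_zero])
  rw [RingHom.mem_ker] at ha hb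
  rw [grad_mul, ha, hb, zero_smul, zero_smul, add_zero]

section Point

variable {A : Type u} [CommRing A] [IsDomain A] [Algebra k A] [Algebra.FiniteType k A]
  (ψ : MvPolynomial σ k →ₐ[k] A) (hψ : Function.Surjective ψ)

/-- The span of the gradients of the equations. -/
noncomputable def conormal (x : σ → k) : Submodule k (σ → k) :=
  ((RingHom.ker ψ).restrictScalars k).map (grad x)

include hψ in
/-- The gradients of the equations span at most a space of the codimension. -/
theorem finrank_conormal_add_le (x : σ → k) (q : Ideal A) [q.IsMaximal] (hq : q.comap ψ = ptIdeal x) {r : ℕ}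
    (hr : ringKrullDim A = (r : WithBot ℕ∞)) :
    Module.finrank k (conormal ψ x) + r ≤ Fintype.card σ := by
  classical
  obtain ⟨C', hC'⟩ := (conormal ψ x).exists_isCompl
  let b := Module.finBasis k C'
  let L : Fin (Module.finrank k C') → MvPolynomial σ k := fun l => ∑ i, C ((b l : σ → k) i) * (X i - C (x i))
  have hL : ∀ l, L l ∈ ptIdeal x := fun l => Ideal.sum_mem _ fun i _ => Ideal.mul_mem_left _ _ (X_sub_mem x i)
  have hgL : ∀ l, grad x (L l) = b l := fun l => by
    simp only [L, map_sum, grad_mul, grad_C, map_sub, grad_X, eval_C, eval_X, sub_self, sub_zero, smul_zero,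
      add_zero]
    exact (pi_eq_sum_univ' (b l : σ → k)).symm
  have hspan : ptIdeal x ≤ RingHom.ker ψ ⊔ Ideal.span (Set.range L) ⊔ ptIdeal x ^ 2 := by
    intro g hg
    obtain ⟨w, hw, c, hc, hwc⟩ := Submodule.mem_sup.1 (hC'.sup_eq_top ▸ Submodule.mem_top (x := grad x g))
    obtain ⟨f, hf, rfl⟩ := hw
    have hf' : f ∈ RingHom.ker ψ := hf
    have hfx : eval x f = 0 := by
      have : f ∈ q.comap ψ := by rw [Ideal.mem_comap, RingHom.mem_ker.1 hf']; exact q.zero_mem
      rwa [hq, RingHom.mem_ker] at this
    let Z := ∑ l, C (b.repr ⟨c, hc⟩ l) * L l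
    have hZ : Z ∈ Ideal.span (Set.range L) :=
      Ideal.sum_mem _ fun l _ => Ideal.mul_mem_left _ _ (Ideal.subset_span ⟨l, rfl⟩)
    have hrest : g - f - Z ∈ ptIdeal x ^ 2 := by
      have h0 : eval x (g - f - Z) = 0 := by
        simp only [map_sub, RingHom.mem_ker.1 hg, hfx, Z, map_sum, map_mul, RingHom.mem_ker.1 (hL _), mul_zero,
          Finset.sum_const_zero, sub_zero]
      have h1 : grad x (g - f - Z) = 0 := by
        have hZ' : grad x Z = c := by
          simp only [Z, map_sum, grad_mul, grad_C, eval_C, smul_zero, add_zero, hgL]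
          have := congrArg C'.subtype (b.sum_repr ⟨c, hc⟩)
          simp only [map_sum, map_smul, Submodule.subtype_apply] at this
          exact this
        rw [map_sub, map_sub, hZ', ← hwc]
        abel
      have := taylor x (g - f - Z)
      rw [h0, h1] at this
      simpa using this
    exact Submodule.mem_sup.2 ⟨f + Z, Submodule.add_mem_sup hf' hZ, g - f - Z, hrest, by ring⟩
  have hqmap : q = (ptIdeal x).map ψ := by rw [← hq, Ideal.map_comap_of_surjective _ hψ]
  let B := Localization.AtPrime q
  let m := IsLocalRing.maximalIdeal B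
  let T : Ideal B := Ideal.span (Set.range fun l => algebraMap A B (ψ (L l)))
  have hm : m = q.map (algebraMap A B) := (Localization.AtPrime.map_eq_maximalIdeal).symm
  have hle : m ≤ T ⊔ m • m := by
    have hm' : m = (ptIdeal x).map ((algebraMap A B).comp (ψ : MvPolynomial σ k →+* A)) := by
      rw [hm, ← Ideal.map_map]
      exact congrArg (Ideal.map (algebraMap A B)) hqmap
    conv_lhs => rw [hm']
    refine (Ideal.map_mono hspan).trans ?_
    rw [Ideal.map_sup, Ideal.map_sup, Ideal.map_span, ← Set.range_comp]
    refine sup_le (sup_le ?_ le_sup_left) (le_trans ?_ le_sup_right)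
    · rw [Ideal.map_le_iff_le_comap]
      intro f hf
      rw [Ideal.mem_comap, RingHom.comp_apply, show (ψ : MvPolynomial σ k →+* A) f = 0 from hf, map_zero]
      exact Submodule.zero_mem _
    · rw [Ideal.map_pow, smul_eq_mul, ← pow_two]
      refine Ideal.pow_right_mono ?_ 2
      rw [hm']
  haveI : IsNoetherianRing A := Algebra.FiniteType.isNoetherianRing k A
  have hT : T ≤ m := Ideal.span_le.2 (by
    rintro _ ⟨l, rfl⟩
    rw [hm]
    refine Ideal.mem_map_of_mem _ ?_
    rw [hqmap]
    exact Ideal.mem_map_of_mem _ (hL l))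
  have heq : m = T := le_antisymm
    (Submodule.le_of_le_smul_of_le_jacobson_bot (IsNoetherian.noetherian m)
      (IsLocalRing.maximalIdeal_le_jacobson _) hle) hT
  have h1 := ringKrullDim_le_spanFinrank_maximalIdeal B
  rw [IsLocalization.AtPrime.ringKrullDim_eq_height q B, L22.AffineDim.height_of_isMaximal k A q, hr] at h1
  have h2 : m.spanFinrank ≤ Module.finrank k C' := by
    rw [heq]
    refine (Submodule.spanFinrank_span_le_ncard_of_finite (Set.finite_range _)).trans ?_
    rw [← Set.image_univ]
    exact (Set.ncard_image_le Set.finite_univ).trans (by simp)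
  have h3 : r ≤ Module.finrank k C' := le_trans (by exact_mod_cast h1) h2
  have h4 := Submodule.finrank_add_eq_of_isCompl hC'
  rw [Module.finrank_fintype_fun_eq_card] at h4
  omega

include hψ in
/-- A germ in the square of the maximal ideal has its gradient among those of the equations. -/
theorem grad_mem_conormal (x : σ → k) (q : Ideal A) [q.IsMaximal] (hq : q.comap ψ = ptIdeal x) (B : Type u)
    [CommRing B] [Algebra A B] [IsLocalization.AtPrime B q] [IsLocalRing B] (h : MvPolynomial σ k)
    (hx : eval x h = 0) (hh : algebraMap A B (ψ h) ∈ IsLocalRing.maximalIdeal B ^ 2) :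
    grad x h ∈ conormal ψ x := by
  have hqmap : q = (ptIdeal x).map ψ := by rw [← hq, Ideal.map_comap_of_surjective _ hψ]
  rw [← IsLocalization.AtPrime.map_eq_maximalIdeal q B, ← Ideal.map_pow,
    IsLocalization.algebraMap_mem_map_algebraMap_iff q.primeCompl B] at hh
  obtain ⟨s, hs, hsh⟩ := hh
  obtain ⟨s', rfl⟩ := hψ s
  rw [hqmap, ← Ideal.map_pow, Ideal.mem_map_iff_of_surjective _ hψ] at hsh
  obtain ⟨u, hu, hue⟩ := hsh
  have hf : s' * h - u ∈ RingHom.ker ψ := by
    rw [RingHom.mem_ker, map_sub, map_mul, hue, sub_self]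
  have hs0 : eval x s' ≠ 0 := fun h0 => hs (by
    have : s' ∈ q.comap ψ := by rw [hq]; exact h0
    exact this)
  have hmem : grad x (s' * h - u) ∈ conormal ψ x := ⟨_, hf, rfl⟩
  rw [map_sub, grad_eq_zero_of_mem_sq x hu, sub_zero, grad_mul, hx, zero_smul, add_zero] at hmem
  have := (conormal ψ x).smul_mem (eval x s')⁻¹ hmem
  rwa [smul_smul, inv_mul_cancel₀ hs0, one_smul] at this

end Point

/-- An affine linear form. -/
noncomputable def lin (a : Option σ → k) : MvPolynomial σ k := C (a none) + ∑ i, C (a (some i)) * X i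

theorem exists_relation [IsAlgClosed k] {A : Type u} [CommRing A] [IsDomain A] [Algebra k A]
    [Algebra.FiniteType k A] (ψ : MvPolynomial σ k →ₐ[k] A) (hψ : Function.Surjective ψ) :
    ∃ R : MvPolynomial (Option σ) k, R ≠ 0 ∧ ∀ a : Option σ → k, eval a R ≠ 0 →
      ∀ (q : Ideal A) [q.IsMaximal] (B : Type u) [CommRing B] [Algebra A B] [IsLocalization.AtPrime B q]
        [IsLocalRing B], algebraMap A B (ψ (lin a)) ∈ IsLocalRing.maximalIdeal B →
          algebraMap A B (ψ (lin a)) ∉ IsLocalRing.maximalIdeal B ^ 2 := by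
  classical
  obtain ⟨r, -, -, -, hr, htr⟩ := L22.AffineDim.exists_normalization k A
  obtain ⟨t, ht⟩ := (IsNoetherian.noetherian (RingHom.ker ψ) : (RingHom.ker ψ).FG)
  let N := Fintype.card σ
  let Slot := Option (t : Set (MvPolynomial σ k))
  let pr : Slot → MvPolynomial σ k := fun o => o.elim 0 Subtype.val
  let p : (Fin (N - r) → Slot) → Option σ → MvPolynomial (Fin (N - r)) A := fun S o =>
    o.elim (-∑ i, (∑ l, X l * C (ψ (pderiv i (pr (S l))))) * C (ψ (X i)))
      fun i => ∑ l, X l * C (ψ (pderiv i (pr (S l))))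
  have hrN : r ≤ N := by
    have h1 := ringKrullDim_le_of_surjective ψ.toRingHom hψ
    rw [hr, MvPolynomial.ringKrullDim_of_isNoetherianRing, ringKrullDim_eq_zero_of_field, zero_add,
      Nat.card_eq_fintype_card] at h1
    exact_mod_cast h1
  have hrel : ∀ S, ∃ R : MvPolynomial (Option σ) k, R ≠ 0 ∧ aeval (p S) R = 0 := by
    intro S
    by_contra hc
    push Not at hc
    have hai : AlgebraicIndependent k (p S) := (injective_iff_map_eq_zero _).2 fun R hR => by
      by_contra h0; exact hc R h0 hR
    haveI : FaithfulSMul k A :=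
      (faithfulSMul_iff_algebraMap_injective k A).2 (algebraMap k A).injective
    have h1 := hai.lift_cardinalMk_le_trdeg
    have htrB : Algebra.trdeg k (MvPolynomial (Fin (N - r)) A) = (r + (N - r) : ℕ) := by
      rw [← trdeg_add_eq k A (A := MvPolynomial (Fin (N - r)) A), htr, MvPolynomial.trdeg_of_isDomain,
        Cardinal.mk_fintype, Fintype.card_fin]
      simp
    rw [htrB, Cardinal.mk_fintype, Fintype.card_option] at h1
    simp only [Cardinal.lift_natCast, Nat.cast_le] at h1
    omega
  choose R hR0 hR using hrel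
  refine ⟨∏ S, R S, Finset.prod_ne_zero_iff.2 fun S _ => hR0 S, fun a ha q _ B _ _ _ _ hm hm2 => ?_⟩
  rw [map_prod, Finset.prod_ne_zero_iff] at ha
  haveI hqc : (q.comap ψ.toRingHom).IsMaximal := Ideal.comap_isMaximal_of_surjective _ hψ
  obtain ⟨x, hx⟩ := isMaximal_iff_eq_vanishingIdeal_singleton.1 hqc
  have hq : q.comap ψ = ptIdeal x := by
    refine hx.trans (Ideal.ext fun p => ?_)
    simp [RingHom.mem_ker]
  have hax : eval x (lin a) = 0 := by
    have h1 : ψ (lin a) ∈ q := by
      have := (IsLocalization.AtPrime.to_map_mem_maximal_iff B q (ψ (lin a))).1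
      exact this hm
    have : lin a ∈ q.comap ψ := h1
    rwa [hq, RingHom.mem_ker] at this
  have hga : grad x (lin a) = fun i => a (some i) := by
    simp only [lin, map_add, map_sum, grad_C, grad_mul, grad_X, eval_C, smul_zero, add_zero, zero_add]
    exact (pi_eq_sum_univ' fun i => a (some i)).symm
  have hmem : (fun i => a (some i)) ∈ conormal ψ x := hga ▸ grad_mem_conormal ψ hψ x q hq B (lin a) hax hm2
  have hkerx : ∀ f ∈ RingHom.ker ψ, eval x f = 0 := fun f hf => by
    have : f ∈ q.comap ψ := by rw [Ideal.mem_comap, RingHom.mem_ker.1 hf]; exact q.zero_mem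
    rwa [hq, RingHom.mem_ker] at this
  -- the conormal space is spanned by few gradients
  have hspan : conormal ψ x ≤ Submodule.span k ((t.image (grad x) : Finset (σ → k)) : Set (σ → k)) := by
    rintro _ ⟨f, hf, rfl⟩
    have hf' : f ∈ Ideal.span (t : Set (MvPolynomial σ k)) := by rw [Ideal.span, ht]; exact hf
    have : eval x f = 0 ∧ grad x f ∈ Submodule.span k ((t.image (grad x) : Finset (σ → k)) : Set (σ → k)) := by
      clear hf
      induction hf' using Submodule.span_induction with
      | mem g hg =>
        exact ⟨hkerx g (ht ▸ Ideal.subset_span hg), Submodule.subset_span (by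
          rw [Finset.coe_image]; exact ⟨g, hg, rfl⟩)⟩
      | zero => simp
      | add g g' _ _ hg hg' => exact ⟨by rw [map_add, hg.1, hg'.1, add_zero], by rw [map_add]; exact add_mem hg.2 hg'.2⟩
      | smul c g _ hg =>
        rw [smul_eq_mul, map_mul, hg.1, mul_zero, grad_mul, hg.1, zero_smul, add_zero]
        exact ⟨rfl, Submodule.smul_mem _ _ hg.2⟩
    exact this.2
  have hle : Submodule.span k ((t.image (grad x) : Finset (σ → k)) : Set (σ → k)) ≤ conormal ψ x :=
    Submodule.span_le.2 (by
      rw [Finset.coe_image]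
      rintro _ ⟨g, hg, rfl⟩
      exact ⟨g, (ht ▸ Ideal.subset_span hg : g ∈ RingHom.ker ψ), rfl⟩)
  have hw := finrank_conormal_add_le ψ hψ x q hq hr
  obtain ⟨T, hTsub, hTspan, hTli⟩ :=
    exists_linearIndependent k ((t.image (grad x) : Finset (σ → k)) : Set (σ → k))
  haveI : Fintype T := (Set.Finite.subset (Finset.finite_toSet _) hTsub).fintype
  have hTcard : Fintype.card T ≤ N - r := by
    have := finrank_span_eq_card hTli
    rw [Subtype.range_coe, hTspan, le_antisymm hle hspan] at this
    convert (show Module.finrank k (conormal ψ x) ≤ N - r by omega) using 1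
    rw [this]
  obtain ⟨emb⟩ := Function.Embedding.nonempty_of_card_le (α := T) (β := Fin (N - r)) (by simpa using hTcard)
  have hpre : ∀ τ : T, ∃ g ∈ t, grad x g = τ.1 := fun τ => by
    have := hTsub τ.2
    rwa [Finset.coe_image] at this
  choose g hgt hg using hpre
  let S : Fin (N - r) → Slot := Function.extend emb (fun τ => some ⟨g τ, hgt τ⟩) fun _ => none
  have hin : (fun i => a (some i)) ∈ Submodule.span k (Set.range fun l => grad x (pr (S l))) := by
    have h1 := hspan hmem
    rw [← hTspan] at h1
    refine Submodule.span_mono ?_ h1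
    intro τ hτ
    refine ⟨emb ⟨τ, hτ⟩, ?_⟩
    simp only [S]
    rw [emb.injective.extend_apply]
    exact hg ⟨τ, hτ⟩
  obtain ⟨lam, hlam⟩ := (Submodule.mem_span_range_iff_exists_fun k).1 hin
  let evA : A →+* k := RingHom.liftOfSurjective ψ.toRingHom hψ ⟨eval x, fun f hf => hkerx f hf⟩
  have hevA : ∀ f, evA (ψ f) = eval x f := fun f => RingHom.liftOfRightInverse_comp_apply _ _ _ _ f
  let ev : MvPolynomial (Fin (N - r)) A →+* k := eval₂Hom evA lam
  have hsome : ∀ i, ev (∑ l, X l * C (ψ (pderiv i (pr (S l))))) = a (some i) := fun i => by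
    simp only [ev, map_sum, map_mul, eval₂Hom_X', eval₂Hom_C, hevA]
    have := congrFun hlam i
    simpa [Finset.sum_apply, grad_apply] using this
  have hev : ∀ o, ev (p S o) = a o := by
    rintro (_ | i)
    · simp only [p, Option.elim]
      rw [map_neg, map_sum, Finset.sum_congr rfl fun i _ =>
        (map_mul ev _ _).trans (congrArg (· * ev (C (ψ (X i)))) (hsome i))]
      simp only [ev, eval₂Hom_C, hevA, eval_X]
      have h0 := hax
      simp only [lin, map_add, map_sum, map_mul, eval_C, eval_X] at h0
      linear_combination -h0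
    · exact hsome i
  apply ha S (Finset.mem_univ S)
  have key : ∀ Q : MvPolynomial (Option σ) k, ev (aeval (p S) Q) = eval a Q := fun Q => by
    induction Q using MvPolynomial.induction_on with
    | C z =>
      rw [aeval_C, eval_C, IsScalarTower.algebraMap_apply k A (MvPolynomial _ A), algebraMap_eq,
        show algebraMap k A z = ψ (C z) from (ψ.commutes z).symm]
      simp only [ev, eval₂Hom_C, hevA, eval_C]
    | add f f' hf hf' => simp only [map_add, hf, hf']
    | mul_X f o hf => simp only [map_mul, hf, aeval_X, eval_X, hev]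
  rw [← key, hR, map_zero]

end Groth.L14.Bertini
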