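import Groth.Agent.L14.Bertini.Affine
import Groth.Agent.L16.ProjSpace.Charts
import Groth.Agent.L01.Regular
import Mathlib.AlgebraicGeometry.Morphisms.ClosedImmersion
import Mathlib.AlgebraicGeometry.FunctionField

/-!
Bertini for a regular projective variety.
-/

set_option autoImplicit false
universe u

open AlgebraicGeometry CategoryTheory MvPolynomial
open Groth.L16.ProjSpace (AwayX ChartVar X_mem isAffineOpen_basicOpen_X dehom dehom_X_self dehom_X_ne toAway toAway_dehom_mul)

namespace Groth.L14.Bertini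

variable {k : Type u} [Field k] {n : ℕ} {X : Scheme.{u}} (ι : X ⟶ CohB1.ProjSpace n k) [IsClosedImmersion ι]

/-- The standard open of `ℙⁿ`. -/
noncomputable abbrev D (k : Type u) [Field k] (n : ℕ) (j : Fin (n + 1)) : (CohB1.ProjSpace n k).Opens :=
  Proj.basicOpen (CohB1.polyGrading n k) (MvPolynomial.X j : MvPolynomial (Fin (n + 1)) k)

theorem affine (j : Fin (n + 1)) : IsAffineOpen (ι ⁻¹ᵁ D k n j) :=
  (isAffineOpen_basicOpen_X n k j).preimage ι

/-- The coordinate ring of a chart of `X`. -/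
noncomputable def secHom (j : Fin (n + 1)) : AwayX n k j →+* Γ(X, ι ⁻¹ᵁ D k n j) :=
  (ι.app (D k n j)).hom.comp (Proj.awayToSection (CohB1.polyGrading n k) (MvPolynomial.X j)).hom

theorem secHom_surjective (j : Fin (n + 1)) : Function.Surjective (secHom ι j) := by
  haveI : IsIso (Proj.awayToSection (CohB1.polyGrading n k) (MvPolynomial.X j : MvPolynomial (Fin (n + 1)) k)) :=
    (Proj.basicOpenIsoAway (CohB1.polyGrading n k) (MvPolynomial.X j) (X_mem n k j) one_pos).isIso_hom
  exact (ι.app_surjective _ (isAffineOpen_basicOpen_X n k j)).comp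
    ((ConcreteCategory.isIso_iff_bijective
      (Proj.awayToSection (CohB1.polyGrading n k) (MvPolynomial.X j : MvPolynomial (Fin (n + 1)) k))).mp inferInstance).2

/-- The coefficients of a linear form in a chart. -/
noncomputable def coeffs (j : Fin (n + 1)) (p : MvPolynomial (Fin (n + 1)) k) : Option (ChartVar n j) → k :=
  fun o => MvPolynomial.coeff (Finsupp.single (o.elim j Subtype.val) 1) p

theorem dehom_eq_lin (j : Fin (n + 1)) {h : MvPolynomial (Fin (n + 1)) k} (hh : h.IsHomogeneous 1) :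
    dehom n k j h = lin (coeffs j h) := by
  classical
  have hsum : h = ∑ c, C (coeff (Finsupp.single c 1) h) * MvPolynomial.X c := by
    refine MvPolynomial.ext _ _ fun v => ?_
    simp only [coeff_sum, coeff_C_mul, coeff_X']
    by_cases hv : Finsupp.degree v = 1
    · obtain ⟨c, rfl⟩ : ∃ c, Finsupp.single c 1 = v := by
        obtain ⟨c, hc⟩ : ∃ c, v c ≠ 0 := by
          by_contra h0
          push Not at h0
          rw [show v = 0 from Finsupp.ext h0, map_zero] at hv
          omega
        refine ⟨c, Finsupp.ext fun b => ?_⟩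
        rw [Finsupp.degree_eq_sum, ← Finset.add_sum_erase _ _ (Finset.mem_univ c)] at hv
        rcases eq_or_ne b c with rfl | hb
        · rw [Finsupp.single_eq_same]; omega
        · rw [Finsupp.single_eq_of_ne hb]
          have : v b ≤ ∑ y ∈ Finset.univ.erase c, v y :=
            Finset.single_le_sum (fun _ _ => Nat.zero_le _) (by simp [hb])
          omega
      rw [Finset.sum_eq_single c]
      · simp
      · intro b _ hb
        rw [if_neg fun hbc => hb (Finsupp.single_left_injective one_ne_zero hbc), mul_zero]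
      · intro hc; exact absurd (Finset.mem_univ c) hc
    · rw [hh.coeff_eq_zero hv]
      refine (Finset.sum_eq_zero fun b _ => ?_).symm
      rw [if_neg, mul_zero]
      rintro rfl
      exact hv (Finsupp.degree_single _ _)
  conv_lhs => rw [hsum]
  rw [map_sum, lin]
  rw [← Finset.add_sum_erase _ _ (Finset.mem_univ j), map_mul, dehom_X_self, mul_one,
    show dehom n k j (C (coeff (Finsupp.single j 1) h)) = C _ from (dehom n k j).commutes _]
  congr 1
  rw [Finset.sum_subtype _ (p := fun c => c ≠ j) (fun c => by simp)]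
  refine Finset.sum_congr rfl fun c _ => ?_
  rw [map_mul, dehom_X_ne, show dehom n k j (C (coeff (Finsupp.single c.1 1) h)) = C _ from (dehom n k j).commutes _]
  rfl

theorem toAway_lin (j : Fin (n + 1)) (h : ↥(CohB1.polyGrading n k 1)) :
    toAway n k j (lin (coeffs j h.1)) =
      (HomogeneousLocalization.mk
        ⟨1, h, ⟨MvPolynomial.X j, MvPolynomial.isHomogeneous_X k j⟩,
          (⟨1, pow_one _⟩ : (MvPolynomial.X j : MvPolynomial (Fin (n + 1)) k) ∈
            Submonoid.powers (MvPolynomial.X j))⟩ : AwayX n k j) := by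
  rw [← dehom_eq_lin j h.2]
  refine HomogeneousLocalization.val_injective _ ?_
  have h1 := toAway_dehom_mul n k j h.2
  rw [HomogeneousLocalization.val_mk]
  rw [Localization.mk_eq_mk', eq_comm, IsLocalization.mk'_eq_iff_eq_mul, ← h1, pow_one]

variable (j : Fin (n + 1)) (x : X) (hj : (MvPolynomial.X j : MvPolynomial (Fin (n + 1)) k) ∉ (ι.base x).asHomogeneousIdeal)

/-- The germ at `x` of `h / X j`. -/
noncomputable def germOf (h : ↥(CohB1.polyGrading n k 1)) : X.presheaf.stalk x :=
  (ι.stalkMap x).hom ((Proj.stalkIso' (CohB1.polyGrading n k) (ι.base x)).symm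
    (HomogeneousLocalization.mk ⟨1, h, ⟨MvPolynomial.X j, MvPolynomial.isHomogeneous_X k j⟩, hj⟩))

include hj in
theorem mem_chart : x ∈ ι ⁻¹ᵁ D k n j := (Proj.mem_basicOpen _ _ _).2 hj

theorem germ_secHom (h : ↥(CohB1.polyGrading n k 1)) :
    X.presheaf.germ (ι ⁻¹ᵁ D k n j) x (mem_chart ι j x hj) (secHom ι j (toAway n k j (lin (coeffs j h.1)))) =
      germOf ι j x hj h := by
  rw [toAway_lin]
  refine Eq.trans (Scheme.Hom.germ_stalkMap_apply ι (D k n j) x (mem_chart ι j x hj) _).symm ?_
  refine congrArg (ι.stalkMap x).hom ?_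
  refine Eq.trans (ConcreteCategory.congr_hom (ProjectiveSpectrum.Proj.awayToSection_germ
    (CohB1.polyGrading n k) (MvPolynomial.X j) (ι.base x) ((Proj.mem_basicOpen _ _ _).2 hj)) _) ?_
  rfl

theorem germOf_mem {h : ↥(CohB1.polyGrading n k 1)}
    (hh : (h : MvPolynomial (Fin (n + 1)) k) ∈ (ι.base x).asHomogeneousIdeal) :
    germOf ι j x hj h ∈ IsLocalRing.maximalIdeal (X.presheaf.stalk x) := by
  rw [IsLocalRing.mem_maximalIdeal, mem_nonunits_iff]
  intro hu
  haveI : (ι.base x).asHomogeneousIdeal.toIdeal.IsPrime := (ι.base x).isPrime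
  have h1 := isUnit_of_map_unit (ι.stalkMap x).hom _ hu
  have h2 := h1.map (Proj.stalkIso' (CohB1.polyGrading n k) (ι.base x))
  erw [RingEquiv.apply_symm_apply] at h2
  have h3 := (HomogeneousLocalization.isUnit_iff_isUnit_val _ _ _).2 h2
  rw [HomogeneousLocalization.val_mk, Localization.mk_eq_mk'] at h3
  haveI : (ι.base x).asHomogeneousIdeal.toIdeal.IsPrime := (ι.base x).isPrime
  exact (IsLocalization.AtPrime.isUnit_mk'_iff (S := Localization.AtPrime (ι.base x).asHomogeneousIdeal.toIdeal)
    (ι.base x).asHomogeneousIdeal.toIdeal _ _).1 h3 hh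

/-- The chart of `X` as a quotient of a polynomial ring. -/
noncomputable def polyHom (j : Fin (n + 1)) : MvPolynomial (ChartVar n j) k →+* Γ(X, ι ⁻¹ᵁ D k n j) :=
  (secHom ι j).comp (toAway n k j)

theorem polyHom_surjective (j : Fin (n + 1)) : Function.Surjective (polyHom ι j) :=
  (secHom_surjective ι j).comp (Groth.L16.ProjSpace.toAway_surjective n k j)

/-- In one chart, a general linear form has no critical zero at the closed points. -/
theorem exists_chart_relation [IsAlgClosed k] [IsIntegral X] (j : Fin (n + 1)) :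
    ∃ R : MvPolynomial (Fin (n + 1)) k, R ≠ 0 ∧ ∀ h : ↥(CohB1.polyGrading n k 1),
      eval (fun i => coeff (Finsupp.single i 1) (h : MvPolynomial (Fin (n + 1)) k)) R ≠ 0 →
      ∀ x : X, IsClosed ({x} : Set X) → (h : MvPolynomial (Fin (n + 1)) k) ∈ (ι.base x).asHomogeneousIdeal →
        ∀ hj : (MvPolynomial.X j : MvPolynomial (Fin (n + 1)) k) ∉ (ι.base x).asHomogeneousIdeal,
          germOf ι j x hj h ∉ IsLocalRing.maximalIdeal (X.presheaf.stalk x) ^ 2 := by
  by_cases hne : Nonempty (ι ⁻¹ᵁ D k n j)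
  · let A := Γ(X, ι ⁻¹ᵁ D k n j)
    haveI : Nonempty ↥(ι ⁻¹ᵁ D k n j) := hne
    letI : Algebra k A := ((polyHom ι j).comp MvPolynomial.C).toAlgebra
    let ψ : MvPolynomial (ChartVar n j) k →ₐ[k] A := ⟨polyHom ι j, fun r => rfl⟩
    have hψ : Function.Surjective ψ := polyHom_surjective ι j
    haveI : Algebra.FiniteType k A := Algebra.FiniteType.of_surjective ψ hψ
    haveI : IsDomain A := IsIntegral.component_integral _
    obtain ⟨R, hR0, hR⟩ := exists_relation ψ hψ
    let em : Option (ChartVar n j) → Fin (n + 1) := fun o => o.elim j Subtype.val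
    have hem : Function.Injective em := by
      rintro (_ | a) (_ | b) hab
      · rfl
      · exact absurd hab.symm b.2
      · exact absurd hab a.2
      · exact congrArg some (Subtype.ext hab)
    refine ⟨rename em R, fun h0 => hR0 (rename_injective em hem (h0.trans (map_zero _).symm)),
      fun h hh x hx hhx hj => ?_⟩
    rw [eval_rename] at hh
    letI : Algebra A (X.presheaf.stalk x) :=
      TopCat.Presheaf.algebra_section_stalk X.presheaf ⟨x, mem_chart ι j x hj⟩
    haveI := (affine ι j).primeIdealOf_isMaximal_of_isClosed ⟨x, mem_chart ι j x hj⟩ hx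
    haveI : IsLocalization.AtPrime (X.presheaf.stalk x) ((affine ι j).primeIdealOf ⟨x, mem_chart ι j x hj⟩).asIdeal :=
      (affine ι j).isLocalization_stalk ⟨x, mem_chart ι j x hj⟩
    have hz : algebraMap A (X.presheaf.stalk x) (ψ (lin (coeffs j h.1))) = germOf ι j x hj h :=
      germ_secHom ι j x hj h
    have := hR (coeffs j h.1) hh ((affine ι j).primeIdealOf ⟨x, mem_chart ι j x hj⟩).asIdeal (X.presheaf.stalk x)
      (hz ▸ germOf_mem ι j x hj hhx)
    rwa [hz] at this
  · exact ⟨1, one_ne_zero, fun h _ x _ _ hj => absurd ⟨⟨x, mem_chart ι j x hj⟩⟩ hne⟩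

/-- A general hyperplane does not contain `X`. -/
theorem exists_not_contained [IsAlgClosed k] [IsIntegral X] :
    ∃ R : MvPolynomial (Fin (n + 1)) k, R ≠ 0 ∧ ∀ h : ↥(CohB1.polyGrading n k 1),
      eval (fun i => coeff (Finsupp.single i 1) (h : MvPolynomial (Fin (n + 1)) k)) R ≠ 0 →
      ∃ x : X, (h : MvPolynomial (Fin (n + 1)) k) ∉ (ι.base x).asHomogeneousIdeal := by
  classical
  obtain ⟨x1⟩ := (inferInstance : Nonempty X)
  obtain ⟨j, hj1⟩ := Groth.L16.ProjSpace.exists_mem_basicOpen_X n k (ι.base x1)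
  let A := Γ(X, ι ⁻¹ᵁ D k n j)
  haveI : Nonempty ↥(ι ⁻¹ᵁ D k n j) := ⟨⟨x1, hj1⟩⟩
  obtain ⟨q0, hq0⟩ := Ideal.exists_maximal A
  haveI := hq0
  haveI : (q0.comap (polyHom ι j)).IsMaximal := Ideal.comap_isMaximal_of_surjective _ (polyHom_surjective ι j)
  obtain ⟨t, ht⟩ := isMaximal_iff_eq_vanishingIdeal_singleton.1 this
  let x : X := (affine ι j).fromSpec ⟨q0, hq0.isPrime⟩
  have hxW : x ∈ ι ⁻¹ᵁ D k n j := by
    have : x ∈ Set.range (affine ι j).fromSpec := ⟨_, rfl⟩
    rwa [(affine ι j).range_fromSpec] at this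
  have hj : (MvPolynomial.X j : MvPolynomial (Fin (n + 1)) k) ∉ (ι.base x).asHomogeneousIdeal :=
    (Proj.mem_basicOpen _ _ _).1 hxW
  have hq : (affine ι j).primeIdealOf ⟨x, hxW⟩ = ⟨q0, hq0.isPrime⟩ :=
    (affine ι j).fromSpec.isOpenEmbedding.injective ((affine ι j).fromSpec_primeIdealOf ⟨x, hxW⟩)
  let R : MvPolynomial (Fin (n + 1)) k :=
    MvPolynomial.X j + ∑ c : ChartVar n j, C (t c) * MvPolynomial.X c.1
  refine ⟨R, fun h0 => ?_, fun h hh => ⟨x, fun hhx => hh ?_⟩⟩
  · have := congrArg (coeff (Finsupp.single j 1)) h0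
    simp only [R, coeff_add, coeff_sum, coeff_C_mul, coeff_X', coeff_zero] at this
    rw [if_pos trivial, Finset.sum_eq_zero fun (c : ChartVar n j) _ => by
      rw [if_neg fun hc => c.2 (Finsupp.single_left_injective one_ne_zero hc), mul_zero], add_zero] at this
    exact one_ne_zero this
  · letI : Algebra A (X.presheaf.stalk x) := TopCat.Presheaf.algebra_section_stalk X.presheaf ⟨x, hxW⟩
    haveI : IsLocalization.AtPrime (X.presheaf.stalk x) ((affine ι j).primeIdealOf ⟨x, hxW⟩).asIdeal :=
      (affine ι j).isLocalization_stalk ⟨x, hxW⟩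
    have hz : algebraMap A (X.presheaf.stalk x) (polyHom ι j (lin (coeffs j h.1))) ∈
        IsLocalRing.maximalIdeal (X.presheaf.stalk x) := by
      rw [show algebraMap A (X.presheaf.stalk x) (polyHom ι j (lin (coeffs j h.1))) = germOf ι j x hj h from
        germ_secHom ι j x hj h]
      exact germOf_mem ι j x hj hhx
    have h1 := (IsLocalization.AtPrime.to_map_mem_maximal_iff (X.presheaf.stalk x)
      ((affine ι j).primeIdealOf ⟨x, hxW⟩).asIdeal _).1 hz
    rw [hq] at h1
    have h2 : lin (coeffs j h.1) ∈ q0.comap (polyHom ι j) := h1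
    rw [ht, mem_vanishingIdeal_singleton_iff] at h2
    simp only [lin, coeffs, Option.elim, map_add, map_sum, map_mul, aeval_C, aeval_X, Algebra.algebraMap_self,
      RingHom.id_apply] at h2
    simp only [R, map_add, map_sum, map_mul, eval_C, eval_X]
    rw [← h2]
    congr 1
    exact Finset.sum_congr rfl fun c _ => mul_comm _ _

theorem bertini [IsAlgClosed k] [IsIntegral X] (hreg : ∀ x : X, IsRegularLocalRing (X.presheaf.stalk x)) :
    ∃ g : MvPolynomial (Fin (n + 1)) k, g ≠ 0 ∧ ∀ h : ↥(CohB1.polyGrading n k 1),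
      eval (fun i => coeff (Finsupp.single i 1) (h : MvPolynomial (Fin (n + 1)) k)) g ≠ 0 →
      (∃ x : X, (h : MvPolynomial (Fin (n + 1)) k) ∉ (ι.base x).asHomogeneousIdeal) ∧
      ∀ x : X, IsClosed ({x} : Set X) → (h : MvPolynomial (Fin (n + 1)) k) ∈ (ι.base x).asHomogeneousIdeal →
        ∀ (j : Fin (n + 1)) (hj : (MvPolynomial.X j : MvPolynomial (Fin (n + 1)) k) ∉ (ι.base x).asHomogeneousIdeal),
          IsRegularLocalRing (X.presheaf.stalk x ⧸ Ideal.span {germOf ι j x hj h}) := by
  classical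
  obtain ⟨R0, hR00, hR0⟩ := exists_not_contained ι
  choose R hR1 hR using exists_chart_relation ι
  refine ⟨R0 * ∏ j, R j, mul_ne_zero hR00 (Finset.prod_ne_zero_iff.2 fun j _ => hR1 j), fun h hh => ?_⟩
  rw [map_mul, map_prod] at hh
  obtain ⟨h0, h1⟩ := mul_ne_zero_iff.1 hh
  rw [Finset.prod_ne_zero_iff] at h1
  refine ⟨hR0 h h0, fun x hx hhx j hj => ?_⟩
  haveI := hreg x
  exact (Groth.L01.regular_quotient_of_notMem_sq (germOf_mem ι j x hj hhx)
    (hR j h (h1 j (Finset.mem_univ j)) x hx hhx hj)).1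

end Groth.L14.Bertini
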